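import Mathlib.Algebra.Category.ModuleCat.ChangeOfRings
import Mathlib.Algebra.Module.Injective
import Mathlib.Algebra.Category.ModuleCat.EnoughInjectives
import Mathlib

/-!
# The two-term injective resolution over a polynomial ring
-/

set_option autoImplicit false

universe u

open CategoryTheory Polynomial TensorProduct

namespace Groth.Agent.H4PolyInj

variable (A : Type u) [CommRing A]

/-- Finitely supported families in an injective module over a Noetherian ring form an injective module. -/
theorem baer_finsupp [IsNoetherianRing A] {ι : Type} (E : Type u) [AddCommGroup E] [Module A E] [Module.Injective A E] :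
    Module.Baer A (ι →₀ E) := fun I g => by
  classical
  obtain ⟨t, ht⟩ := IsNoetherian.noetherian I
  have hE : Module.Baer A E := Module.Baer.of_injective inferInstance
  choose G hG using fun i : ι => hE I ((Finsupp.lapply i) ∘ₗ g)
  let s : Finset ι := t.attach.biUnion fun x => (g ⟨x.1, ht ▸ Submodule.subset_span x.2⟩).support
  have hs : ∀ x : I, (g x).support ⊆ s := by
    rintro ⟨x, hx⟩
    have hx' : x ∈ Submodule.span A (t : Set A) := ht ▸ hx
    induction hx' using Submodule.span_induction with
    | mem y hy => exact fun i hi => Finset.mem_biUnion.2 ⟨⟨y, hy⟩, Finset.mem_attach _ _, hi⟩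
    | zero => rw [show (⟨0, hx⟩ : I) = 0 from rfl, map_zero, Finsupp.support_zero]; exact Finset.empty_subset _
    | add y z hy hz ihy ihz =>
      rw [show (⟨y + z, hx⟩ : I) = ⟨y, ht ▸ hy⟩ + ⟨z, ht ▸ hz⟩ from rfl, map_add]
      exact Finsupp.support_add.trans (Finset.union_subset (ihy _) (ihz _))
    | smul a y hy ihy =>
      rw [show (⟨a • y, hx⟩ : I) = a • ⟨y, ht ▸ hy⟩ from rfl, map_smul]
      exact Finsupp.support_smul.trans (ihy _)
  refine ⟨∑ i ∈ s, Finsupp.lsingle i ∘ₗ G i, fun x hx => ?_⟩
  rw [LinearMap.sum_apply]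
  simp only [LinearMap.comp_apply, hG _ x hx, Finsupp.lapply_apply, Finsupp.lsingle_apply]
  ext i
  rw [Finsupp.finsetSum_apply]
  simp only [Finsupp.single_apply, Finset.sum_ite_eq']
  split_ifs with h
  · rfl
  · exact (Finsupp.notMem_support_iff.1 fun hi => h (hs ⟨x, hx⟩ hi)).symm

variable {A}

variable (V : Type u) [AddCommGroup V] [Module A V]

/-- The module coinduced to the polynomial ring. -/
def Coind (A : Type u) [CommRing A] (V : Type u) [AddCommGroup V] [Module A V] : Type u := A[X] →ₗ[A] V

noncomputable instance : AddCommGroup (Coind A V) := inferInstanceAs (AddCommGroup (A[X] →ₗ[A] V))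

/-- The underlying linear map. -/
def Coind.fn {V : Type u} [AddCommGroup V] [Module A V] (g : Coind A V) : A[X] →ₗ[A] V := g

/-- A linear map as an element of the coinduced module. -/
def Coind.mk {V : Type u} [AddCommGroup V] [Module A V] (g : A[X] →ₗ[A] V) : Coind A V := g

theorem Coind.ext' {V : Type u} [AddCommGroup V] [Module A V] {g h : Coind A V} (e : ∀ p, g.fn p = h.fn p) : g = h :=
  LinearMap.ext e

noncomputable instance : Module A[X] (Coind A V) where
  smul s g := Coind.mk (g.fn ∘ₗ LinearMap.mulRight A s)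
  one_smul g := Coind.ext' fun p => congrArg g.fn (mul_one p)
  mul_smul s t g := Coind.ext' fun p => congrArg g.fn (mul_assoc p s t).symm
  smul_zero _ := rfl
  smul_add _ _ _ := rfl
  add_smul s t g := Coind.ext' fun p => (congrArg g.fn (mul_add p s t)).trans (map_add _ _ _)
  zero_smul g := Coind.ext' fun p => (congrArg g.fn (mul_zero p)).trans (map_zero _)

theorem smul_fn (s p : A[X]) (g : Coind A V) : (s • g).fn p = g.fn (p * s) := rfl

theorem baer_coind [Module.Injective A V] : Module.Baer A[X] (Coind A V) := fun I g => by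
  let e : I →ₗ[A] V :=
    { toFun := fun x => (g x).fn 1
      map_add' := fun x y => by rw [map_add]; rfl
      map_smul' := fun a x => by
        rw [show a • x = (C a : A[X]) • x from Subtype.ext (by simp [Polynomial.smul_eq_C_mul]), map_smul, smul_fn,
          one_mul, show (C a : A[X]) = a • 1 by rw [Polynomial.smul_eq_C_mul, mul_one], map_smul]
        rfl }
  obtain ⟨G, hG⟩ := Module.Injective.out (I.restrictScalars A).subtype
    (Submodule.injective_subtype _) e
  refine ⟨LinearMap.toSpanSingleton A[X] (Coind A V) (Coind.mk G), fun x hx => Coind.ext' fun p => ?_⟩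
  rw [LinearMap.toSpanSingleton_apply, smul_fn]
  have h := hG ⟨p * x, I.mul_mem_left p hx⟩
  refine h.trans ?_
  show (g ⟨p * x, _⟩).fn 1 = _
  rw [show (⟨p * x, I.mul_mem_left p hx⟩ : I) = p • ⟨x, hx⟩ from rfl, map_smul, smul_fn, one_mul]

section Sequence

variable [Module A[X] V] [IsScalarTower A A[X] V]

/-- The unit. -/
noncomputable def ι : V →ₗ[A[X]] Coind A V where
  toFun v := Coind.mk (((LinearMap.id : A[X] →ₗ[A[X]] A[X]).smulRight v).restrictScalars A)
  map_add' v w := Coind.ext' fun p => smul_add p v w
  map_smul' s v := Coind.ext' fun p => smul_smul p s v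

/-- The commutator with the variable. -/
noncomputable def δ : Coind A V →ₗ[A[X]] Coind A V where
  toFun g := Coind.mk (g.fn ∘ₗ LinearMap.mulLeft A X -
    (DistribSMul.toLinearMap A V (X : A[X])) ∘ₗ g.fn)
  map_add' g h := Coind.ext' fun p => by
    show g.fn (X * p) + h.fn (X * p) - (X : A[X]) • (g.fn p + h.fn p) =
      g.fn (X * p) - (X : A[X]) • g.fn p + (h.fn (X * p) - (X : A[X]) • h.fn p)
    rw [smul_add]; abel
  map_smul' s g := Coind.ext' fun p => by
    show g.fn (X * p * s) - (X : A[X]) • g.fn (p * s) = g.fn (X * (p * s)) - (X : A[X]) • g.fn (p * s)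
    rw [mul_assoc]

theorem ι_injective : Function.Injective (ι (A := A) V) := fun v w h => by
  have h1 : (1 : A[X]) • v = (1 : A[X]) • w :=
    LinearMap.congr_fun (h : ((ι (A := A) V) v).fn = ((ι V) w).fn) (1 : A[X])
  rwa [one_smul, one_smul] at h1

theorem exact_ι_δ : Function.Exact (ι (A := A) V) (δ V) := fun g => by
  constructor
  · intro h
    have h' : ∀ p, g.fn (X * p) = (X : A[X]) • g.fn p := fun p =>
      sub_eq_zero.1 (LinearMap.congr_fun (h : Coind.mk _ = Coind.mk 0) p)
    refine ⟨g.fn 1, Coind.ext' fun p => ?_⟩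
    show p • g.fn 1 = g.fn p
    induction p using Polynomial.induction_on with
    | C a =>
      rw [show (C a : A[X]) = a • 1 by rw [Polynomial.smul_eq_C_mul, mul_one], map_smul, smul_assoc, one_smul]
    | add p q hp hq => rw [add_smul, hp, hq, map_add]
    | monomial n a ih =>
      rw [show C a * X ^ (n + 1) = X * (C a * X ^ n) by rw [pow_succ]; ring, h', ← ih, mul_smul]
  · rintro ⟨v, rfl⟩
    refine Coind.ext' fun p => ?_
    show (X * p) • v - (X : A[X]) • p • v = 0
    rw [mul_smul, sub_self]

theorem δ_surjective : Function.Surjective (δ (A := A) V) := fun h => by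
  obtain ⟨f, hf⟩ : ∃ f : ℕ → V, ∀ k, f (k + 1) = h.fn (X ^ k) + (X : A[X]) • f k :=
    ⟨fun k => Nat.rec 0 (fun k fk => h.fn (X ^ k) + (X : A[X]) • fk) k, fun _ => rfl⟩
  obtain ⟨G, hG⟩ : ∃ G : A[X] →ₗ[A] V, ∀ k, G (X ^ k) = f k :=
    ⟨(Polynomial.basisMonomials A).constr A f, fun k => by
      rw [← Polynomial.monomial_one_right_eq_X_pow,
        show Polynomial.monomial k (1 : A) = Polynomial.basisMonomials A k by rw [Polynomial.coe_basisMonomials],
        Module.Basis.constr_basis]⟩
  refine ⟨Coind.mk G, Coind.ext' fun p => ?_⟩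
  show G (X * p) - (X : A[X]) • G p = h.fn p
  induction p using Polynomial.induction_on' with
  | add p q hp hq => rw [mul_add, map_add, map_add, map_add, smul_add, ← hp, ← hq]; abel
  | monomial k a =>
    rw [← Polynomial.smul_X_eq_monomial, mul_smul_comm, map_smul, map_smul, map_smul, ← pow_succ', hG, hG, hf,
      ← smul_comm a (X : A[X]), ← smul_sub, add_sub_cancel_right]

end Sequence

end Groth.Agent.H4PolyInj
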